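import Mathlib

set_option autoImplicit false
universe u

open AlgebraicGeometry CategoryTheory CategoryTheory.Limits

/-!
# Morphisms from the spectrum of a Milnor square into a scheme
-/

namespace Groth.Agent.H98QP

/-- `Spec` of a ring map. -/
noncomputable abbrev sm {R S : Type u} [CommRing R] [CommRing S] (f : R →+* S) :
    Spec (CommRingCat.of S) ⟶ Spec (CommRingCat.of R) :=
  Spec.map (CommRingCat.ofHom f)

lemma sm_comp {R S T : Type u} [CommRing R] [CommRing S] [CommRing T] (f : R →+* S) (g : S →+* T) :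
    sm (g.comp f) = sm g ≫ sm f := by
  rw [sm, sm, sm, CommRingCat.ofHom_comp, Spec.map_comp]

variable {C A₀ B' B : Type u} [CommRing C] [CommRing A₀] [CommRing B'] [CommRing B]

/-- A fibre square of rings with a surjection. -/
structure Square (p : C →+* A₀) (q : C →+* B') (γ : A₀ →+* B) (π : B' →+* B) : Prop where
  comm : γ.comp p = π.comp q
  surj : Function.Surjective π
  ext : ∀ x y, p x = p y → q x = q y → x = y
  lift : ∀ a b, γ a = π b → ∃ c, p c = a ∧ q c = b

variable {p : C →+* A₀} {q : C →+* B'} {γ : A₀ →+* B} {π : B' →+* B}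

lemma Square.surj_p (h : Square p q γ π) : Function.Surjective p := fun a => by
  obtain ⟨b, hb⟩ := h.surj (γ a)
  obtain ⟨c, hc, -⟩ := h.lift a b hb.symm
  exact ⟨c, hc⟩

/-- A morphism on `D(c) ⊆ Spec C` in terms of its two components. -/
noncomputable abbrev pl (p : C →+* A₀) (c : C) :
    Localization.Away c →+* Localization.Away (p c) :=
  IsLocalization.Away.map _ _ p c

lemma pl_comp (p : C →+* A₀) (c : C) :
    (pl p c).comp (algebraMap C (Localization.Away c)) =
      (algebraMap A₀ (Localization.Away (p c))).comp p := by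
  ext x
  simp [pl, IsLocalization.Away.map]

lemma Square.ext_loc (h : Square p q γ π) (c : C) (x y : Localization.Away c)
    (h1 : pl p c x = pl p c y) (h2 : pl q c x = pl q c y) : x = y := by
  obtain ⟨n, a, ha⟩ := IsLocalization.Away.surj c x
  obtain ⟨m, b, hb⟩ := IsLocalization.Away.surj c y
  have hu : IsUnit (algebraMap C (Localization.Away c) c ^ (n + m)) :=
    (IsLocalization.Away.algebraMap_isUnit c).pow _
  refine hu.mul_left_injective ?_
  show x * _ = y * _
  rw [pow_add, ← mul_assoc, ha, mul_comm (algebraMap C _ c ^ n), ← mul_assoc, hb, ← map_pow, ← map_pow,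
    ← map_mul, ← map_mul]
  have e : ∀ {D : Type u} [CommRing D] (r : C →+* D), pl r c x = pl r c y →
      algebraMap D (Localization.Away (r c)) (r (a * c ^ m)) =
        algebraMap D (Localization.Away (r c)) (r (b * c ^ n)) := by
    intro D _ r hr
    have hr' := fun z => RingHom.congr_fun (pl_comp r c) z
    simp only [RingHom.comp_apply] at hr'
    have e0 : pl r c (x * algebraMap C _ c ^ n * algebraMap C _ c ^ m) =
        pl r c (y * algebraMap C _ c ^ m * algebraMap C _ c ^ n) := by
      simp only [map_mul, hr]; ring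
    rw [ha, hb, ← map_pow, ← map_pow, ← map_mul (algebraMap C _), ← map_mul (algebraMap C _),
      hr', hr'] at e0
    exact e0
  obtain ⟨N, hN⟩ := IsLocalization.Away.exists_of_eq (p c) (e p h1)
  obtain ⟨M, hM⟩ := IsLocalization.Away.exists_of_eq (q c) (e q h2)
  have hc : c ^ (N + M) * (a * c ^ m) = c ^ (N + M) * (b * c ^ n) := by
    apply h.ext
    · rw [map_mul, map_mul p (c ^ (N + M)), map_pow, pow_add]
      linear_combination (p c) ^ M * hN
    · rw [map_mul, map_mul q (c ^ (N + M)), map_pow, pow_add]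
      linear_combination (q c) ^ N * hM
  have hu' : IsUnit (algebraMap C (Localization.Away c) (c ^ (N + M))) := by
    rw [map_pow]; exact (IsLocalization.Away.algebraMap_isUnit c).pow _
  refine hu'.mul_right_injective ?_
  show _ * _ = _ * _
  rw [← map_mul, ← map_mul, hc]

lemma Square.exists_loc (h : Square p q γ π) (c : C) {T : Type u} [CommRing T] [Algebra B T]
    [IsLocalization.Away (γ (p c)) T] (γ' : Localization.Away (p c) →+* T)
    (π' : Localization.Away (q c) →+* T)
    (hγ' : γ'.comp (algebraMap A₀ _) = (algebraMap B T).comp γ)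
    (hπ' : π'.comp (algebraMap B' _) = (algebraMap B T).comp π)
    (u : Localization.Away (p c)) (v : Localization.Away (q c)) (huv : γ' u = π' v) :
    ∃ w, pl p c w = u ∧ pl q c w = v := by
  obtain ⟨n, a, ha⟩ := IsLocalization.Away.surj (p c) u
  obtain ⟨m, b, hb⟩ := IsLocalization.Away.surj (q c) v
  have hcc : π (q c) = γ (p c) := (RingHom.congr_fun h.comm c).symm
  have hγ'' := fun z => RingHom.congr_fun hγ' z
  have hπ'' := fun z => RingHom.congr_fun hπ' z
  simp only [RingHom.comp_apply] at hγ'' hπ''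
  have e : algebraMap B T (γ (a * p c ^ m)) = algebraMap B T (π (b * q c ^ n)) := by
    have e0 : γ' (u * algebraMap A₀ _ (p c) ^ n * algebraMap A₀ _ (p c) ^ m) =
        π' (v * algebraMap B' _ (q c) ^ m * algebraMap B' _ (q c) ^ n) := by
      simp only [map_mul, map_pow, hγ'', hπ'', hcc, huv]; ring
    rw [ha, hb, ← map_pow (algebraMap A₀ _), ← map_pow (algebraMap B' _), ← map_mul (algebraMap A₀ _),
      ← map_mul (algebraMap B' _), hγ'', hπ''] at e0
    exact e0
  obtain ⟨N, hN⟩ := IsLocalization.Away.exists_of_eq (γ (p c)) e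
  obtain ⟨w, hw1, hw2⟩ := h.lift (p c ^ N * (a * p c ^ m)) (q c ^ N * (b * q c ^ n)) (by
    rw [map_mul, map_mul π, map_pow, map_pow, hcc]; exact hN)
  have hu : IsUnit (algebraMap C (Localization.Away c) (c ^ (N + (n + m)))) := by
    rw [map_pow]; exact (IsLocalization.Away.algebraMap_isUnit c).pow _
  refine ⟨↑hu.unit⁻¹ * algebraMap C _ w, ?_, ?_⟩
  · have hp := fun z => RingHom.congr_fun (pl_comp p c) z
    simp only [RingHom.comp_apply] at hp
    refine (hu.map (pl p c)).mul_right_injective ?_
    show _ * _ = _ * _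
    rw [← map_mul, ← mul_assoc, IsUnit.mul_val_inv, one_mul, hp, hp, hw1]
    simp only [map_mul, map_pow, ← ha]
    ring
  · have hq := fun z => RingHom.congr_fun (pl_comp q c) z
    simp only [RingHom.comp_apply] at hq
    refine (hu.map (pl q c)).mul_right_injective ?_
    show _ * _ = _ * _
    rw [← map_mul, ← mul_assoc, IsUnit.mul_val_inv, one_mul, hq, hq, hw2]
    simp only [map_mul, map_pow, ← hb]
    ring

lemma Square.exists_hom (h : Square p q γ π) (c : C) {R T : Type u} [CommRing R] [CommRing T] [Algebra B T]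
    [IsLocalization.Away (γ (p c)) T] (γ' : Localization.Away (p c) →+* T)
    (π' : Localization.Away (q c) →+* T)
    (hγ' : γ'.comp (algebraMap A₀ _) = (algebraMap B T).comp γ)
    (hπ' : π'.comp (algebraMap B' _) = (algebraMap B T).comp π)
    (u : R →+* Localization.Away (p c)) (v : R →+* Localization.Away (q c))
    (huv : γ'.comp u = π'.comp v) :
    ∃ w : R →+* Localization.Away c, (pl p c).comp w = u ∧ (pl q c).comp w = v := by
  choose w hw1 hw2 using fun r => h.exists_loc c γ' π' hγ' hπ' (u r) (v r) (RingHom.congr_fun huv r)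
  refine ⟨⟨⟨⟨w, ?_⟩, fun x y => ?_⟩, ?_, fun x y => ?_⟩, RingHom.ext hw1, RingHom.ext hw2⟩ <;>
    apply h.ext_loc <;> simp [hw1, hw2]

/-- The restriction of a point to `D(p c)`. -/
noncomputable abbrev toC (p : C →+* A₀) (c : C) :
    Spec (CommRingCat.of (Localization.Away (p c))) ⟶ Spec (CommRingCat.of A₀) :=
  sm (algebraMap A₀ (Localization.Away (p c)))

lemma mem_range_away {R : Type u} [CommRing R] (c : R) (P : Spec (CommRingCat.of R)) :
    P ∈ Set.range (sm (algebraMap R (Localization.Away c))) ↔ c ∉ P.asIdeal := by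
  have := PrimeSpectrum.localization_away_comap_range (Localization.Away c) c
  constructor
  · intro hP
    exact this.le hP
  · intro hP
    exact this.ge hP

/-- Every point of `Spec C` comes from one of the two components. -/
lemma Square.exists_point (h : Square p q γ π) (P : Spec (CommRingCat.of C)) :
    (∃ Q, sm p Q = P) ∨ ∃ Q, sm q Q = P := by
  by_cases hle : RingHom.ker p ≤ P.asIdeal
  · refine Or.inl ?_
    have : P ∈ Set.range (PrimeSpectrum.comap p) := by
      rw [_root_.range_comap_of_surjective _ _ h.surj_p]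
      exact hle
    exact this
  · obtain ⟨c, hc, hcP⟩ := SetLike.not_le_iff_exists.mp hle
    refine Or.inr ?_
    have hb : ∀ b, ∃ d, p d = 0 ∧ q d = b * q c := fun b => h.lift 0 (b * q c) (by
      rw [map_zero, map_mul, show π (q c) = γ (p c) from (RingHom.congr_fun h.comm c).symm, hc,
        map_zero, mul_zero])
    choose d hd1 hd2 using hb
    have hmul : ∀ a b, d a * d b = d (a * b) * c := fun a b => h.ext _ _ (by simp [hd1])
      (by simp only [map_mul, hd2]; ring)
    refine ⟨⟨{
      carrier := {b | d b ∈ P.asIdeal}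
      zero_mem' := by
        have : d 0 = 0 := h.ext _ _ (by simp [hd1]) (by simp [hd2])
        simp [this]
      add_mem' := fun {a b} ha hb => by
        have : d (a + b) = d a + d b := h.ext _ _ (by simp [hd1]) (by simp [hd2, add_mul])
        show d (a + b) ∈ P.asIdeal
        rw [this]; exact P.asIdeal.add_mem ha hb
      smul_mem' := fun a b hb => by
        have : d (a * b) * c = d a * d b := (hmul a b).symm
        exact (P.2.mem_or_mem (this ▸ P.asIdeal.mul_mem_left (d a) hb)).resolve_right hcP }, ?_⟩,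
      PrimeSpectrum.ext (Ideal.ext fun x => ?_)⟩
    · refine ⟨fun htop => hcP ?_, fun {a b} hab => ?_⟩
      · have h1 : d 1 ∈ P.asIdeal := (Ideal.eq_top_iff_one _).mp htop
        have : d 1 = c := h.ext _ _ (by rw [hd1, hc]) (by rw [hd2, one_mul])
        rwa [this] at h1
      · exact P.2.mem_or_mem ((hmul a b).symm ▸ P.asIdeal.mul_mem_right c hab)
    · show d (q x) ∈ P.asIdeal ↔ x ∈ P.asIdeal
      have : d (q x) = x * c := h.ext _ _ (by rw [hd1, map_mul, RingHom.mem_ker.mp hc, mul_zero]) (by rw [hd2, map_mul])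
      rw [this]
      exact ⟨fun hh => (P.2.mem_or_mem hh).resolve_right hcP, fun hh => P.asIdeal.mul_mem_right c hh⟩

variable {G : Scheme.{u}}

/-- Two morphisms from `D(c)` with image in an affine open agreeing on both components are equal. -/
lemma Square.hom_ext_loc (h : Square p q γ π) (c : C) {U : G.Opens} (hU : IsAffineOpen U)
    (f g : Spec (CommRingCat.of (Localization.Away c)) ⟶ G)
    (h1 : sm (pl p c) ≫ f = sm (pl p c) ≫ g) (h2 : sm (pl q c) ≫ f = sm (pl q c) ≫ g)
    (hf : Set.range f ⊆ (U : Set G)) (hg : Set.range g ⊆ (U : Set G)) : f = g := by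
  have hf' : Set.range f ⊆ Set.range hU.fromSpec := hU.range_fromSpec ▸ hf
  have hg' : Set.range g ⊆ Set.range hU.fromSpec := hU.range_fromSpec ▸ hg
  rw [← IsOpenImmersion.lift_fac hU.fromSpec f hf', ← IsOpenImmersion.lift_fac hU.fromSpec g hg']
  congr 1
  rw [← IsOpenImmersion.lift_fac hU.fromSpec f hf', ← IsOpenImmersion.lift_fac hU.fromSpec g hg',
    ← Category.assoc, ← Category.assoc, cancel_mono] at h1 h2
  rw [← Spec.map_preimage (IsOpenImmersion.lift hU.fromSpec f hf'),
    ← Spec.map_preimage (IsOpenImmersion.lift hU.fromSpec g hg')]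
  congr 1
  have e1 := congrArg Spec.preimage h1
  have e2 := congrArg Spec.preimage h2
  simp only [Spec.preimage_comp, sm, Spec.preimage_map] at e1 e2
  ext x
  exact h.ext_loc c _ _ (congr($e1 x)) (congr($e2 x))

lemma Square.range_subset_of_pl (h : Square p q γ π) (c : C) (U : Set G)
    (f : Spec (CommRingCat.of (Localization.Away c)) ⟶ G)
    (h1 : Set.range (sm (pl p c) ≫ f) ⊆ U) (h2 : Set.range (sm (pl q c) ≫ f) ⊆ U) :
    Set.range f ⊆ U := by
  rintro _ ⟨z, rfl⟩
  have key : ∀ {D : Type u} [CommRing D] (r : C →+* D) (Q : Spec (CommRingCat.of D)),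
      sm r Q = sm (algebraMap C (Localization.Away c)) z →
        Set.range (sm (pl r c) ≫ f) ⊆ U → f z ∈ U := by
    intro D _ r Q hQ hr
    have hcz : c ∉ (sm r Q).asIdeal := by
      rw [hQ]; exact (mem_range_away c _).mp ⟨z, rfl⟩
    obtain ⟨y, hy⟩ := (mem_range_away (r c) Q).mpr hcz
    have hz : sm (pl r c) y = z := by
      apply (PrimeSpectrum.localization_comap_injective (Localization.Away c) (Submonoid.powers c))
      show sm (algebraMap C (Localization.Away c)) (sm (pl r c) y) = sm (algebraMap C (Localization.Away c)) z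
      rw [← Scheme.Hom.comp_apply, ← sm_comp, pl_comp, sm_comp, Scheme.Hom.comp_apply, hy, hQ]
    rw [← hz, ← Scheme.Hom.comp_apply]
    exact hr ⟨y, rfl⟩
  rcases h.exists_point (sm (algebraMap C (Localization.Away c)) z) with ⟨Q, hQ⟩ | ⟨Q, hQ⟩
  · exact key p Q hQ h1
  · exact key q Q hQ h2

lemma exists_basic {R : Type u} [CommRing R] (f : Spec (CommRingCat.of R) ⟶ G) (U : G.Opens)
    (P : Spec (CommRingCat.of R)) (hP : f P ∈ U) :
    ∃ a : R, a ∉ P.asIdeal ∧ ∀ Q : Spec (CommRingCat.of R), a ∉ Q.asIdeal → f Q ∈ U := by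
  obtain ⟨_, ⟨_, ⟨a, rfl⟩, rfl⟩, ha, haU⟩ :=
    PrimeSpectrum.isBasis_basic_opens.exists_subset_of_mem_open
      (show P ∈ ((f ⁻¹ᵁ U : (Spec (CommRingCat.of R)).Opens) : Set _) from hP) (f ⁻¹ᵁ U).2
  exact ⟨a, ha, fun Q hQ => haU hQ⟩

/-- Each point has a basic neighbourhood mapped to an affine open by both components. -/
lemma Square.exists_nhd (h : Square p q γ π) (f₁ : Spec (CommRingCat.of A₀) ⟶ G)
    (f₂ : Spec (CommRingCat.of B') ⟶ G) (hf : sm γ ≫ f₁ = sm π ≫ f₂) (P : Spec (CommRingCat.of C)) :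
    ∃ (c : C) (U : G.Opens), c ∉ P.asIdeal ∧ IsAffineOpen U ∧
      (∀ Q : Spec (CommRingCat.of A₀), p c ∉ Q.asIdeal → f₁ Q ∈ U) ∧
      (∀ Q : Spec (CommRingCat.of B'), q c ∉ Q.asIdeal → f₂ Q ∈ U) := by
  by_cases hle : RingHom.ker p ≤ P.asIdeal
  · obtain ⟨Q, rfl⟩ : P ∈ Set.range (PrimeSpectrum.comap p) := by
      rw [_root_.range_comap_of_surjective _ _ h.surj_p]
      exact hle
    obtain ⟨U, hU, hQU, -⟩ := exists_isAffineOpen_mem_and_subset (U := ⊤) (TopologicalSpace.Opens.mem_top (f₁ Q))
    obtain ⟨a, haQ, haU⟩ := exists_basic f₁ U Q hQU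
    let F : Set (PrimeSpectrum B') := (f₂.base ⁻¹' (U : Set G))ᶜ
    have hF : IsClosed F := (U.2.preimage f₂.continuous).isClosed_compl
    obtain ⟨J, hJ⟩ := (PrimeSpectrum.isClosed_iff_zeroLocus_ideal F).mp hF
    have ha : γ a ∈ (J.map π).radical := by
      rw [← PrimeSpectrum.vanishingIdeal_zeroLocus_eq_radical, PrimeSpectrum.mem_vanishingIdeal]
      intro S hS
      by_contra hSa
      have h1 : f₁ (sm γ S) ∈ U := haU _ hSa
      rw [← Scheme.Hom.comp_apply, hf, Scheme.Hom.comp_apply] at h1
      have h2 : sm π S ∈ F := by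
        rw [hJ]
        intro x hx
        exact hS (Ideal.mem_map_of_mem π hx)
      exact h2 h1
    obtain ⟨m, hm'⟩ := ha
    have hm : γ a ^ (m + 1) ∈ J.map π := by rw [pow_succ]; exact Ideal.mul_mem_right _ _ hm'
    obtain ⟨j, hj, hje⟩ := (Ideal.mem_map_iff_of_surjective π h.surj).mp hm
    obtain ⟨c, hc1, hc2⟩ := h.lift (a ^ (m + 1)) j (by rw [hje, map_pow])
    refine ⟨c, U, ?_, hU, fun S hS => haU S fun hh => hS ?_, fun S hS => ?_⟩
    · show p c ∉ Q.asIdeal
      rw [hc1]
      exact fun hh => haQ (Q.2.mem_of_pow_mem (m + 1) hh)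
    · rw [hc1]
      exact Ideal.pow_mem_of_mem _ hh (m + 1) m.succ_pos
    · by_contra hSU
      have : S ∈ F := hSU
      rw [hJ] at this
      exact hS (hc2 ▸ this hj)
  · obtain ⟨Q, rfl⟩ := (h.exists_point P).resolve_left (by
      rintro ⟨Q, rfl⟩
      refine hle fun x hx => ?_
      show p x ∈ Q.asIdeal
      rw [RingHom.mem_ker.mp hx]
      exact zero_mem _)
    obtain ⟨c₀, hc0, hcQ⟩ := SetLike.not_le_iff_exists.mp hle
    obtain ⟨U, hU, hQU, -⟩ := exists_isAffineOpen_mem_and_subset (U := ⊤) (TopologicalSpace.Opens.mem_top (f₂ Q))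
    obtain ⟨b, hbQ, hbU⟩ := exists_basic f₂ U Q hQU
    obtain ⟨c, hc1, hc2⟩ := h.lift 0 (b * q c₀) (by
      rw [map_zero, map_mul, show π (q c₀) = γ (p c₀) from (RingHom.congr_fun h.comm c₀).symm,
        RingHom.mem_ker.mp hc0, map_zero, mul_zero])
    refine ⟨c, U, ?_, hU, fun S hS => absurd (hc1 ▸ zero_mem _) hS, fun S hS => hbU S fun hh => hS ?_⟩
    · show q c ∉ Q.asIdeal
      rw [hc2]
      exact fun hh => (Q.2.mem_or_mem hh).elim hbQ hcQ
    · rw [hc2]
      exact Ideal.mul_mem_right _ _ hh

lemma Square.exists_local (h : Square p q γ π) (f₁ : Spec (CommRingCat.of A₀) ⟶ G)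
    (f₂ : Spec (CommRingCat.of B') ⟶ G) (hf : sm γ ≫ f₁ = sm π ≫ f₂) (c : C) (U : G.Opens)
    (hU : IsAffineOpen U) (h1 : ∀ Q : Spec (CommRingCat.of A₀), p c ∉ Q.asIdeal → f₁ Q ∈ U)
    (h2 : ∀ Q : Spec (CommRingCat.of B'), q c ∉ Q.asIdeal → f₂ Q ∈ U) :
    ∃ f : Spec (CommRingCat.of (Localization.Away c)) ⟶ G, Set.range f ⊆ (U : Set G) ∧
      sm (pl p c) ≫ f = toC p c ≫ f₁ ∧ sm (pl q c) ≫ f = toC q c ≫ f₂ := by
  have r1 : Set.range (toC p c ≫ f₁) ⊆ Set.range hU.fromSpec := by
    rintro _ ⟨z, rfl⟩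
    rw [hU.range_fromSpec, Scheme.Hom.comp_apply]
    exact h1 _ ((mem_range_away (p c) _).mp ⟨z, rfl⟩)
  have r2 : Set.range (toC q c ≫ f₂) ⊆ Set.range hU.fromSpec := by
    rintro _ ⟨z, rfl⟩
    rw [hU.range_fromSpec, Scheme.Hom.comp_apply]
    exact h2 _ ((mem_range_away (q c) _).mp ⟨z, rfl⟩)
  let l1 := IsOpenImmersion.lift hU.fromSpec (toC p c ≫ f₁) r1
  let l2 := IsOpenImmersion.lift hU.fromSpec (toC q c ≫ f₂) r2
  let T := Localization.Away (γ (p c))
  let γ' : Localization.Away (p c) →+* T := IsLocalization.Away.map _ _ γ (p c)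
  have hu : IsUnit (((algebraMap B T).comp π) (q c)) := by
    rw [RingHom.comp_apply, show π (q c) = γ (p c) from (RingHom.congr_fun h.comm c).symm]
    exact IsLocalization.Away.algebraMap_isUnit (γ (p c))
  let π' : Localization.Away (q c) →+* T := IsLocalization.Away.lift (q c) hu
  have hγ' : γ'.comp (algebraMap A₀ _) = (algebraMap B T).comp γ := pl_comp γ (p c)
  have hπ' : π'.comp (algebraMap B' _) = (algebraMap B T).comp π := by
    ext x; simp [π']
  have e : sm γ' ≫ l1 = sm π' ≫ l2 := by
    rw [← cancel_mono hU.fromSpec, Category.assoc, Category.assoc, IsOpenImmersion.lift_fac,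
      IsOpenImmersion.lift_fac, toC, toC, ← Category.assoc, ← Category.assoc, ← sm_comp, ← sm_comp,
      hγ', hπ', sm_comp γ (algebraMap B T), sm_comp π (algebraMap B T), Category.assoc, Category.assoc, hf]
  have e' := congrArg (fun m => (Spec.preimage m).hom) e
  simp only [Spec.preimage_comp, sm, Spec.preimage_map, CommRingCat.hom_comp, CommRingCat.hom_ofHom] at e'
  obtain ⟨w, hw1, hw2⟩ := h.exists_hom c γ' π' hγ' hπ' _ _ e'
  refine ⟨sm w ≫ hU.fromSpec, ?_, ?_, ?_⟩
  · rw [Scheme.Hom.comp_base, TopCat.coe_comp]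
    exact (Set.range_comp_subset_range _ _).trans hU.range_fromSpec.le
  · rw [← Category.assoc, ← sm_comp, hw1, sm, CommRingCat.ofHom_hom, Spec.map_preimage,
      IsOpenImmersion.lift_fac]
  · rw [← Category.assoc, ← sm_comp, hw2, sm, CommRingCat.ofHom_hom, Spec.map_preimage,
      IsOpenImmersion.lift_fac]

/-- Gluing of points along a Milnor square. -/
theorem Square.exists_glue (h : Square p q γ π) (f₁ : Spec (CommRingCat.of A₀) ⟶ G)
    (f₂ : Spec (CommRingCat.of B') ⟶ G) (hf : sm γ ≫ f₁ = sm π ≫ f₂) :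
    ∃ f : Spec (CommRingCat.of C) ⟶ G, sm p ≫ f = f₁ ∧ sm q ≫ f = f₂ := by
  choose c U hcP hU h1 h2 using h.exists_nhd f₁ f₂ hf
  choose F hFU hF1 hF2 using fun P => h.exists_local f₁ f₂ hf (c P) (U P) (hU P) (h1 P) (h2 P)
  have hspan : Ideal.span (Set.range c) = ⊤ := by
    by_contra hne
    obtain ⟨m, hm, hle⟩ := Ideal.exists_le_maximal _ hne
    exact hcP ⟨m, hm.isPrime⟩ (hle (Ideal.subset_span ⟨⟨m, hm.isPrime⟩, rfl⟩))
  let 𝒰 : (Spec (CommRingCat.of C)).OpenCover :=
    (Scheme.affineOpenCoverOfSpanRangeEqTop (R := CommRingCat.of C) c hspan).openCover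
  have h𝒰 : ∀ P, 𝒰.f P = sm (algebraMap C (Localization.Away (c P))) := fun P => rfl
  let ι : ∀ P, Spec (CommRingCat.of (Localization.Away (c P))) ⟶ Spec (CommRingCat.of C) :=
    fun P => sm (algebraMap C (Localization.Away (c P)))
  have hoi : ∀ P, IsOpenImmersion (ι P) := fun P => IsOpenImmersion.of_isLocalization (c P)
  have hcompat : ∀ P P' : Spec (CommRingCat.of C),
      pullback.fst (ι P) (ι P') ≫ F P = pullback.snd _ _ ≫ F P' := by
    intro P P'
    let d := c P * c P'
    let iP : Localization.Away (c P) →+* Localization.Away d :=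
      IsLocalization.Away.lift (c P) (g := algebraMap C (Localization.Away d))
        (isUnit_of_mul_isUnit_left (y := algebraMap C _ (c P'))
          (by rw [← map_mul]; exact IsLocalization.Away.algebraMap_isUnit d))
    let iP' : Localization.Away (c P') →+* Localization.Away d :=
      IsLocalization.Away.lift (c P') (g := algebraMap C (Localization.Away d))
        (isUnit_of_mul_isUnit_right (x := algebraMap C _ (c P))
          (by rw [← map_mul]; exact IsLocalization.Away.algebraMap_isUnit d))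
    have hi : sm iP ≫ ι P = sm iP' ≫ ι P' := by
      rw [← sm_comp, ← sm_comp]
      congr 1
      ext x; simp [iP, iP']
    let e := pullback.lift (sm iP) (sm iP') hi
    have hiP : sm iP ≫ ι P = sm (algebraMap C (Localization.Away d)) := by
      rw [← sm_comp]; congr 1; ext x; simp [iP]
    have : IsOpenImmersion (e ≫ pullback.fst _ _ ≫ ι P) := by
      rw [pullback.lift_fst_assoc, hiP]
      exact IsOpenImmersion.of_isLocalization d
    have : IsOpenImmersion e := IsOpenImmersion.of_comp e (pullback.fst _ _ ≫ ι P)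
    have : Surjective e := ⟨fun z => by
      have hz : (pullback.fst _ _ ≫ ι P) z ∈ Set.range (sm (algebraMap C (Localization.Away d))) := by
        rw [mem_range_away]
        intro hh
        rcases ((pullback.fst _ _ ≫ ι P) z).2.mem_or_mem hh with hh | hh
        · exact (mem_range_away (c P) _).mp ⟨(pullback.fst (ι P) (ι P')) z, by rw [← Scheme.Hom.comp_apply]⟩ hh
        · exact (mem_range_away (c P') _).mp ⟨(pullback.snd (ι P) (ι P')) z, by
            rw [← Scheme.Hom.comp_apply, ← pullback.condition]⟩ hh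
      obtain ⟨y, hy⟩ := hz
      refine ⟨y, (pullback.fst (ι P) (ι P') ≫ ι P).isOpenEmbedding.injective ?_⟩
      rw [← hy, ← hiP, ← Scheme.Hom.comp_apply, pullback.lift_fst_assoc]⟩
    have : IsIso e := (isIso_iff_isOpenImmersion_and_surjective e).mpr ⟨inferInstance, inferInstance⟩
    rw [← cancel_epi e, pullback.lift_fst_assoc, pullback.lift_snd_assoc]
    -- agreement on the components
    have hg : ∀ {D : Type u} [CommRing D] (r : C →+* D) (f' : Spec (CommRingCat.of D) ⟶ G),
        (sm (pl r (c P)) ≫ F P = toC r (c P) ≫ f') → (sm (pl r (c P')) ≫ F P' = toC r (c P') ≫ f') →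
        sm (pl r d) ≫ sm iP ≫ F P = toC r d ≫ f' ∧ sm (pl r d) ≫ sm iP' ≫ F P' = toC r d ≫ f' := by
      intro D _ r f' e1 e2
      constructor
      · let j : Localization.Away (r (c P)) →+* Localization.Away (r d) :=
          IsLocalization.Away.lift (r (c P)) (g := algebraMap D (Localization.Away (r d)))
            (isUnit_of_mul_isUnit_left (y := algebraMap D _ (r (c P')))
              (by rw [← map_mul, ← map_mul r]; exact IsLocalization.Away.algebraMap_isUnit (r d)))
        have hj : (pl r d).comp iP = j.comp (pl r (c P)) := by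
          refine IsLocalization.ringHom_ext (Submonoid.powers (c P)) ?_
          ext x
          simp [iP, j, pl, IsLocalization.Away.map]
        rw [← Category.assoc, ← sm_comp, hj, sm_comp, Category.assoc, e1, toC, toC, ← Category.assoc,
          ← sm_comp]
        congr 2
        ext x; simp [j]
      · let j : Localization.Away (r (c P')) →+* Localization.Away (r d) :=
          IsLocalization.Away.lift (r (c P')) (g := algebraMap D (Localization.Away (r d)))
            (isUnit_of_mul_isUnit_right (x := algebraMap D _ (r (c P)))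
              (by rw [← map_mul, ← map_mul r]; exact IsLocalization.Away.algebraMap_isUnit (r d)))
        have hj : (pl r d).comp iP' = j.comp (pl r (c P')) := by
          refine IsLocalization.ringHom_ext (Submonoid.powers (c P')) ?_
          ext x
          simp [iP', j, pl, IsLocalization.Away.map]
        rw [← Category.assoc, ← sm_comp, hj, sm_comp, Category.assoc, e2, toC, toC, ← Category.assoc,
          ← sm_comp]
        congr 2
        ext x; simp [j]
    obtain ⟨a1, a2⟩ := hg p f₁ (hF1 P) (hF1 P')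
    obtain ⟨b1, b2⟩ := hg q f₂ (hF2 P) (hF2 P')
    have rP : Set.range (sm iP ≫ F P) ⊆ (U P : Set G) := by
      rw [Scheme.Hom.comp_base, TopCat.coe_comp]
      exact (Set.range_comp_subset_range _ _).trans (hFU P)
    refine h.hom_ext_loc d (hU P) _ _ (a1.trans a2.symm) (b1.trans b2.symm) rP ?_
    refine h.range_subset_of_pl d _ _ ?_ ?_
    · rw [a2, ← a1, Scheme.Hom.comp_base, TopCat.coe_comp]
      exact (Set.range_comp_subset_range _ _).trans rP
    · rw [b2, ← b1, Scheme.Hom.comp_base, TopCat.coe_comp]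
      exact (Set.range_comp_subset_range _ _).trans rP
  have hglue : ∀ P, ι P ≫ 𝒰.glueMorphisms F hcompat = F P :=
    fun P => Scheme.Cover.ι_glueMorphisms 𝒰 F hcompat P
  have key : ∀ {D : Type u} [CommRing D] (r : C →+* D) (f' : Spec (CommRingCat.of D) ⟶ G),
      (∀ P, sm (pl r (c P)) ≫ F P = toC r (c P) ≫ f') → sm r ≫ 𝒰.glueMorphisms F hcompat = f' := by
    intro D _ r f' e
    have hspan' : Ideal.span (Set.range fun P => r (c P)) = ⊤ := by
      have := congrArg (Ideal.map r) hspan
      rwa [Ideal.map_span, Ideal.map_top, ← Set.range_comp] at this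
    refine Scheme.Cover.hom_ext
      (Scheme.affineOpenCoverOfSpanRangeEqTop (R := CommRingCat.of D) _ hspan').openCover _ _ fun P => ?_
    show toC r (c P) ≫ sm r ≫ _ = toC r (c P) ≫ f'
    rw [← e P, ← hglue P, ← Category.assoc, ← sm_comp, ← pl_comp, sm_comp, Category.assoc]
  exact ⟨_, key p f₁ hF1, key q f₂ hF2⟩

end Groth.Agent.H98QP
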