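import Groth.Agent.H98QP.Scale

set_option autoImplicit false
universe u

open AlgebraicGeometry CategoryTheory CategoryTheory.Limits MonoidalCategory CartesianMonoidalCategory
  MonObj GrpObj Polynomial

set_option maxHeartbeats 400000

/-!
# Quillen patching for points of group schemes
-/

namespace Groth.Agent.H98QP

variable {R : Type u} [CommRing R]

/-- `Spec C` over `Spec R`. -/
noncomputable abbrev pt (R : Type u) [CommRing R] (C : Type u) [CommRing C] [Algebra R C] :
    Over (Spec (CommRingCat.of R)) :=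
  Over.mk (Spec.map (CommRingCat.ofHom (algebraMap R C)))

/-- The morphism of spectra over `R` given by a ring map. -/
noncomputable def sp {C D : Type u} [CommRing C] [CommRing D] [Algebra R C] [Algebra R D]
    (φ : C →+* D) (hφ : φ.comp (algebraMap R C) = algebraMap R D) : pt R D ⟶ pt R C :=
  Over.homMk (sm φ) (by
    show sm φ ≫ sm (algebraMap R C) = sm (algebraMap R D)
    rw [← sm_comp, hφ])

@[simp] lemma sp_left {C D : Type u} [CommRing C] [CommRing D] [Algebra R C] [Algebra R D]
    (φ : C →+* D) (hφ : φ.comp (algebraMap R C) = algebraMap R D) : (sp φ hφ).left = sm φ := rfl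

lemma eq_sp {C D : Type u} [CommRing C] [CommRing D] [Algebra R C] [Algebra R D]
    (f : pt R D ⟶ pt R C) (φ : C →+* D) (hφ : φ.comp (algebraMap R C) = algebraMap R D)
    (hf : f.left = sm φ) : f = sp φ hφ := by
  ext : 1; exact hf

lemma sp_sp {C D E : Type u} [CommRing C] [CommRing D] [CommRing E] [Algebra R C] [Algebra R D]
    [Algebra R E] (φ : C →+* D) (hφ : φ.comp (algebraMap R C) = algebraMap R D)
    (ψ : D →+* E) (hψ : ψ.comp (algebraMap R D) = algebraMap R E) :
    sp ψ hψ ≫ sp φ hφ = sp (ψ.comp φ) (by rw [RingHom.comp_assoc, hφ, hψ]) := by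
  ext : 1
  simp [sm_comp]

lemma sp_congr {C D : Type u} [CommRing C] [CommRing D] [Algebra R C] [Algebra R D]
    {φ ψ : C →+* D} {hφ : φ.comp (algebraMap R C) = algebraMap R D}
    {hψ : ψ.comp (algebraMap R C) = algebraMap R D} (h : φ = ψ) : sp φ hφ = sp ψ hψ := by
  subst h; rfl

variable {A B : Type u} [CommRing A] [CommRing B] [Algebra R A] [Algebra R B] [Algebra A B]
  [IsScalarTower R A B]

lemma algebraMap_poly (C : Type u) [CommRing C] [Algebra R C] :
    algebraMap R C[X] = (Polynomial.C : C →+* C[X]).comp (algebraMap R C) := rfl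

lemma map_comm : (mapRingHom (algebraMap A B)).comp (algebraMap R A[X]) = algebraMap R B[X] := by
  ext x
  simp [algebraMap_poly, ← IsScalarTower.algebraMap_apply]

lemma eval_comm (C : Type u) [CommRing C] [Algebra R C] (c : C) :
    (evalRingHom c).comp (algebraMap R C[X]) = algebraMap R C := by
  ext x; simp [algebraMap_poly]

lemma scale_comm (C : Type u) [CommRing C] [Algebra R C] (c : C) :
    (scale c).comp (algebraMap R C[X]) = algebraMap R C[X] := by
  ext x; simp [algebraMap_poly, scale_C]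

variable (G : Over (Spec (CommRingCat.of R))) [GrpObj G] [LocallyOfFinitePresentation G.hom]

/-- Rescaled points over `B[V]` come from `A[V]`. -/
lemma exists_factor (r : A) [IsLocalization.Away r B] (h : pt R B[X] ⟶ G)
    (hh : sp (evalRingHom (0 : B)) (eval_comm B 0) ≫ h = 1) :
    ∃ (N : ℕ) (k : pt R A[X] ⟶ G),
      sp (mapRingHom (algebraMap A B)) map_comm ≫ k =
        sp (scale (algebraMap A B r ^ N)) (scale_comm B _) ≫ h := by
  have hab : (algebraMap A B).comp (algebraMap R A) = algebraMap R B :=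
    (IsScalarTower.algebraMap_eq R A B).symm
  have hone : sp (algebraMap A B) hab ≫ (1 : pt R A ⟶ G) = 1 := MonObj.comp_one _
  have hcomp : sm (algebraMap A B) ≫ (1 : pt R A ⟶ G).left = sm (evalRingHom (0 : B)) ≫ h.left := by
    exact congrArg (fun m : pt R B ⟶ G => m.left) (hone.trans hh.symm)
  obtain ⟨N, k, hk, hkh⟩ := exists_scale_factor (A := A) (B := B) r G.hom (algebraMap R A) h.left (by
      refine (Over.w h).trans ?_
      show sm _ = sm _
      congr 1
      rw [algebraMap_poly, RingHom.comp_assoc, hab])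
    (1 : pt R A ⟶ G).left (Over.w _) hcomp
  refine ⟨N, Over.homMk k hk, ?_⟩
  ext : 1
  simpa using hkh

/-- The substitution `T ↦ b T` on `B[T]`, as a morphism. -/
noncomputable abbrev sub (C : Type u) [CommRing C] [Algebra R C] (b : R) : pt R C[X] ⟶ pt R C[X] :=
  sp (scale (algebraMap R C b)) (scale_comm C _)

set_option maxHeartbeats 800000 in
/-- The key step of Quillen patching. -/
lemma exists_difference (r : R) [IsLocalization.Away (algebraMap R A r) B] (g : pt R B[X] ⟶ G)
    (hg : sp (evalRingHom (0 : B)) (eval_comm B 0) ≫ g = 1) :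
    ∃ N : ℕ, ∀ s v : R, ∃ k : pt R A[X] ⟶ G,
      sp (evalRingHom (0 : A)) (eval_comm A 0) ≫ k = 1 ∧
      sp (mapRingHom (algebraMap A B)) map_comm ≫ k =
        (sub B (v + r ^ N * s) ≫ g) * (sub B v ≫ g)⁻¹ := by
  let A₁ := A[X]
  let B₁ := B[X]
  let A₂ := A₁[X]
  let B₂ := B₁[X]
  let : Algebra A₁ B₁ := Polynomial.algebra A B
  let : Algebra A₂ B₂ := Polynomial.algebra A₁ B₁
  have : IsScalarTower R A₁ B₁ := .of_algebraMap_eq' map_comm.symm
  have : IsScalarTower R A₂ B₂ := .of_algebraMap_eq' map_comm.symm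
  have h1 : IsLocalization.Away (Polynomial.C (algebraMap R A r) : A₁) B₁ := by
    have := Polynomial.isLocalization (Submonoid.powers (algebraMap R A r)) B
    rwa [Submonoid.map_powers] at this
  have h2 : IsLocalization.Away (Polynomial.C (Polynomial.C (algebraMap R A r)) : A₂) B₂ := by
    have := Polynomial.isLocalization (Submonoid.powers (Polynomial.C (algebraMap R A r) : A₁)) B₁
    rwa [Submonoid.map_powers] at this
  let CT : B₂[X] := Polynomial.C (Polynomial.C (Polynomial.X : B₁))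
  let ρ₁ : B₁ →+* B₂[X] := eval₂RingHom (algebraMap B B₂[X])
    ((Polynomial.C (Polynomial.X : B₂) + Polynomial.X) * CT)
  let ρ₀ : B₁ →+* B₂[X] := eval₂RingHom (algebraMap B B₂[X])
    (Polynomial.C (Polynomial.X : B₂) * CT)
  have hρ₁ : ρ₁.comp (algebraMap R B₁) = algebraMap R B₂[X] := by
    ext x
    simp only [ρ₁, B₁, B₂, RingHom.comp_apply, algebraMap_poly, coe_eval₂RingHom, eval₂_C]
    rfl
  have hρ₀ : ρ₀.comp (algebraMap R B₁) = algebraMap R B₂[X] := by
    ext x
    simp only [ρ₀, B₁, B₂, RingHom.comp_apply, algebraMap_poly, coe_eval₂RingHom, eval₂_C]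
    rfl
  let h : pt R B₂[X] ⟶ G := (sp (R := R) (C := B₁) (D := B₂[X]) ρ₁ hρ₁ ≫ g) * (sp (R := R) (C := B₁) (D := B₂[X]) ρ₀ hρ₀ ≫ g)⁻¹
  have hh : sp (evalRingHom (0 : B₂)) (eval_comm B₂ 0) ≫ h = 1 := by
    have e : sp (evalRingHom (0 : B₂)) (eval_comm B₂ 0) ≫ sp (R := R) (C := B₁) (D := B₂[X]) ρ₁ hρ₁ =
        sp (evalRingHom (0 : B₂)) (eval_comm B₂ 0) ≫ sp (R := R) (C := B₁) (D := B₂[X]) ρ₀ hρ₀ := by
      rw [sp_sp, sp_sp]
      apply sp_congr
      refine Polynomial.ringHom_ext (fun a => ?_) ?_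
      · simp [ρ₁, ρ₀, B₁]
      · simp [ρ₁, ρ₀, B₁, CT]
    simp only [h, MonObj.comp_mul, GrpObj.comp_inv]
    rw [reassoc_of% e, mul_inv_cancel]
  obtain ⟨N, k₂, hk₂⟩ := exists_factor (A := A₂) (B := B₂) G
    (Polynomial.C (Polynomial.C (algebraMap R A r))) h hh
  refine ⟨N, fun s v => ?_⟩
  let evC : ∀ (C : Type u) [CommRing C] [Algebra R C], (C[X])[X][X] →+* C[X] := fun C _ _ =>
    (evalRingHom (Polynomial.C (algebraMap R C v))).comp
      (evalRingHom (Polynomial.C (Polynomial.C (algebraMap R C s))))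
  have hev : ∀ (C : Type u) [CommRing C] [Algebra R C],
      (evC C).comp (algebraMap R (C[X])[X][X]) = algebraMap R C[X] := fun C _ _ => by
    ext x; simp [evC, algebraMap_poly]
  let k := sp (evC A) (hev A) ≫ k₂
  have hk : sp (mapRingHom (algebraMap A B)) map_comm ≫ k =
      (sub B (v + r ^ N * s) ≫ g) * (sub B v ≫ g)⁻¹ := by
    have e1 : sp (mapRingHom (algebraMap A B)) map_comm ≫ sp (evC A) (hev A) =
        sp (evC B) (hev B) ≫ sp (R := R) (C := A₂[X]) (D := B₂[X]) (mapRingHom (algebraMap A₂ B₂)) map_comm := by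
      rw [sp_sp, sp_sp]
      apply sp_congr
      ext x <;> simp [evC, A₁, A₂, B₁, B₂, RingHom.algebraMap_toAlgebra, ← IsScalarTower.algebraMap_apply]
    rw [show k = _ from rfl, ← Category.assoc, e1, Category.assoc, hk₂]
    simp only [h, MonObj.comp_mul, GrpObj.comp_inv, ← Category.assoc, sp_sp]
    have hr : algebraMap A₂ B₂ (Polynomial.C (Polynomial.C (algebraMap R A r))) =
        Polynomial.C (Polynomial.C (algebraMap R B r)) := by
      simp [A₁, A₂, B₁, B₂, RingHom.algebraMap_toAlgebra, ← IsScalarTower.algebraMap_apply]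
    refine congrArg₂ (fun x y => x * y⁻¹) (congrArg (· ≫ g) (sp_congr ?_)) (congrArg (· ≫ g) (sp_congr ?_))
    · refine Polynomial.ringHom_ext (fun a => ?_) ?_
      · simp [ρ₁, evC, B₁, B₂, hr, scale_apply, scale_C, algebraMap_eq]
      · simp [ρ₁, evC, B₁, B₂, CT, hr, scale_apply]
    · refine Polynomial.ringHom_ext (fun a => ?_) ?_
      · simp [ρ₀, evC, B₁, B₂, hr, scale_apply, scale_C, algebraMap_eq]
      · simp [ρ₀, evC, B₁, B₂, CT, hr, scale_apply]
  -- normalisation at the origin
  let c : pt R A[X] ⟶ G := sp (Polynomial.C : A →+* A[X]) (algebraMap_poly A).symm ≫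
    sp (evalRingHom (0 : A)) (eval_comm A 0) ≫ k
  refine ⟨k * c⁻¹, ?_, ?_⟩
  · rw [MonObj.comp_mul, GrpObj.comp_inv]
    have e : sp (evalRingHom (0 : A)) (eval_comm A 0) ≫ c = sp (evalRingHom (0 : A)) (eval_comm A 0) ≫ k := by
      simp only [c, ← Category.assoc, sp_sp]
      congr 1
      apply sp_congr
      ext x <;> simp
    rw [e, mul_inv_cancel]
  · rw [MonObj.comp_mul, GrpObj.comp_inv, hk]
    have e : sp (mapRingHom (algebraMap A B)) map_comm ≫ c =
        sp (Polynomial.C : B →+* B[X]) (algebraMap_poly B).symm ≫ sp (evalRingHom (0 : B)) (eval_comm B 0) ≫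
          sp (mapRingHom (algebraMap A B)) map_comm ≫ k := by
      simp only [c, ← Category.assoc, sp_sp]
      congr 1
      apply sp_congr
      ext x <;> simp
    have e2 : ∀ b : R, sp (evalRingHom (0 : B)) (eval_comm B 0) ≫ sub B b ≫ g = 1 := fun b => by
      rw [← Category.assoc, sub, sp_sp, ← hg]
      congr 1
      apply sp_congr
      ext x <;> simp [scale_apply]
    rw [e, hk, MonObj.comp_mul, GrpObj.comp_inv, e2, e2, inv_one, _root_.one_mul, MonObj.comp_one, inv_one, _root_.mul_one]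

theorem exists_mul_decomposition {A' : Type u} [CommRing A'] [Algebra R A'] [Algebra A' B]
    [IsScalarTower R A' B] (r r' : R) (hrr : Ideal.span ({r, r'} : Set R) = ⊤)
    [IsLocalization.Away (algebraMap R A r') B] [IsLocalization.Away (algebraMap R A' r) B]
    (g : pt R B[X] ⟶ G) (hg : sp (evalRingHom (0 : B)) (eval_comm B 0) ≫ g = 1) :
    ∃ (g₁ : pt R A[X] ⟶ G) (g₂ : pt R A'[X] ⟶ G),
      sp (evalRingHom (0 : A)) (eval_comm A 0) ≫ g₁ = 1 ∧
      sp (evalRingHom (0 : A')) (eval_comm A' 0) ≫ g₂ = 1 ∧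
      g = (sp (mapRingHom (algebraMap A B)) map_comm ≫ g₁) *
        (sp (mapRingHom (algebraMap A' B)) map_comm ≫ g₂) := by
  obtain ⟨N₁, hN₁⟩ := exists_difference G (A := A') r g hg
  obtain ⟨N₂, hN₂⟩ := exists_difference G (A := A) r' g hg
  obtain ⟨s, s', hss⟩ : ∃ s s', r ^ N₁ * s + r' ^ N₂ * s' = 1 := by
    obtain ⟨a, b, hab⟩ := ((Ideal.isCoprime_span_singleton_iff r r').mp (by
      rw [Ideal.isCoprime_iff_sup_eq, ← Ideal.span_insert, hrr])).pow (m := N₁) (n := N₂)
    exact ⟨a, b, by linear_combination hab⟩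
  obtain ⟨g₁, hg₁, hg₁'⟩ := hN₂ s' (r ^ N₁ * s)
  obtain ⟨g₂, hg₂, hg₂'⟩ := hN₁ s 0
  refine ⟨g₁, g₂, hg₁, hg₂, ?_⟩
  have h0 : sub B (0 : R) ≫ g = 1 := by
    have : sub B (0 : R) = sp (Polynomial.C : B →+* B[X]) (algebraMap_poly B).symm ≫
        sp (evalRingHom (0 : B)) (eval_comm B 0) := by
      rw [sp_sp]
      apply sp_congr
      ext x <;> simp [scale_apply]
    rw [this, Category.assoc, hg, MonObj.comp_one]
  have h1 : sub B (1 : R) ≫ g = g := by
    have : sub B (1 : R) = 𝟙 _ := by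
      ext : 1
      show sm (scale (algebraMap R B 1)) = 𝟙 _
      rw [map_one, scale_one]
      exact Spec.map_id _
    rw [this, Category.id_comp]
  rw [hg₁', hg₂', zero_add, h0, inv_one, _root_.mul_one, hss, h1, inv_mul_cancel_right]

/-- Localising `R[1/r']` at `r`. -/
lemma away_of_mul {A : Type u} [CommRing A] [Algebra R A] [Algebra A B] [IsScalarTower R A B]
    (x y : R) [IsLocalization.Away x A] [IsLocalization.Away (y * x) B] :
    IsLocalization.Away (algebraMap R A y) B := by
  let T := Localization.Away (algebraMap R A y)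
  have : IsLocalization.Away (y * x) T := IsLocalization.Away.mul A T x y
  let e : T ≃ₐ[R] B := IsLocalization.algEquiv (Submonoid.powers (y * x)) T B
  have he : (e.toRingHom).comp (algebraMap A T) = algebraMap A B := by
    refine IsLocalization.ringHom_ext (Submonoid.powers x) ?_
    ext z
    simp [← IsScalarTower.algebraMap_apply]
  exact IsLocalization.isLocalization_of_algEquiv _
    (AlgEquiv.ofRingEquiv (f := e.toRingEquiv) (RingHom.congr_fun he) : T ≃ₐ[A] B)

end Groth.Agent.H98QP
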