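import Groth.Agent.H98QP.Milnor

set_option autoImplicit false
universe u

open AlgebraicGeometry CategoryTheory CategoryTheory.Limits Polynomial

set_option maxHeartbeats 400000

/-!
# Rescaling points over `B[V]`, `B = A[1/r]`, to points over `A[V]`
-/

namespace Groth.Agent.H98QP

/-- The endomorphism `V ↦ b V`. -/
noncomputable def scale {A : Type u} [CommRing A] (b : A) : A[X] →+* A[X] :=
  compRingHom (Polynomial.C b * Polynomial.X)

lemma scale_apply {A : Type u} [CommRing A] (b : A) (p : A[X]) :
    scale b p = p.comp (Polynomial.C b * Polynomial.X) := rfl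

lemma coeff_scale {A : Type u} [CommRing A] (b : A) (p : A[X]) (n : ℕ) :
    (scale b p).coeff n = p.coeff n * b ^ n := by
  rw [scale_apply, comp_C_mul_X_coeff]

lemma scale_scale {A : Type u} [CommRing A] (a b : A) :
    (scale a).comp (scale b) = scale (a * b) := by
  refine Polynomial.ringHom_ext (fun x => by simp [scale_apply]) ?_
  simp only [RingHom.comp_apply, scale_apply, X_comp, mul_comp, C_comp, map_mul]
  ring

lemma scale_one {A : Type u} [CommRing A] : scale (1 : A) = RingHom.id A[X] := by
  ext p n <;> simp [scale_apply]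

lemma map_scale {A B : Type u} [CommRing A] [CommRing B] (γ : A →+* B) (b : A) :
    (mapRingHom γ).comp (scale b) = (scale (γ b)).comp (mapRingHom γ) := by
  ext p n <;> simp [RingHom.comp_apply, scale_apply]

lemma scale_C {A : Type u} [CommRing A] (b a : A) : scale b (Polynomial.C a) = Polynomial.C a := by
  simp [scale_apply]

section

variable {A B : Type u} [CommRing A] [CommRing B] [Algebra A B] (r : A) [IsLocalization.Away r B]

/-- Polynomials over `B` with constant term from `A`. -/
noncomputable def FibreRing (A B : Type u) [CommRing A] [CommRing B] [Algebra A B] : Subring (A × B[X]) :=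
  RingHom.eqLocus ((algebraMap A B).comp (RingHom.fst A B[X]))
    ((evalRingHom (0 : B)).comp (RingHom.snd A B[X]))

lemma square : Square ((RingHom.fst A B[X]).comp (FibreRing A B).subtype)
    ((RingHom.snd A B[X]).comp (FibreRing A B).subtype) (algebraMap A B) (evalRingHom (0 : B)) where
  comm := RingHom.ext fun x => x.2
  surj := fun b => ⟨Polynomial.C b, by simp⟩
  ext := fun x y h1 h2 => Subtype.ext (Prod.ext h1 h2)
  lift := fun a b h => ⟨⟨(a, b), h⟩, rfl, rfl⟩

/-- The inverse of `r`. -/
noncomputable def rinv : B := IsLocalization.Away.invSelf r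

lemma r_rinv : algebraMap A B r * rinv r = (1 : B) := IsLocalization.Away.mul_invSelf r

/-- The `n`-th map to the fibre ring. -/
noncomputable def toFibre (n : ℕ) : A[X] →+* FibreRing A B :=
  ((evalRingHom (0 : A)).prod ((scale ((rinv (B := B) r) ^ n)).comp (mapRingHom (algebraMap A B)))).codRestrict
    (FibreRing A B) fun p => by
    show algebraMap A B (p.eval 0) = (scale ((rinv (B := B) r) ^ n) (p.map (algebraMap A B))).eval 0
    rw [← coeff_zero_eq_eval_zero, ← coeff_zero_eq_eval_zero, coeff_scale, coeff_map, pow_zero, mul_one]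

/-- The diagram `A[V] → A[V] → ⋯` with transition maps `V ↦ r V`. -/
noncomputable def diag : AsSmall.{u} ℕ ⥤ CommRingCat.{u} :=
  AsSmall.down ⋙
  { obj := fun _ => CommRingCat.of A[X]
    map := fun {i j} _ => CommRingCat.ofHom (scale (r ^ (j - i)))
    map_id := fun i => by simp [scale_one]
    map_comp := fun {i j k} f g => by
      have h1 := leOfHom f
      have h2 := leOfHom g
      rw [← CommRingCat.ofHom_comp, scale_scale, ← pow_add]
      congr 2
      congr 1
      omega }

lemma toFibre_scale (m n : ℕ) (h : m ≤ n) :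
    (toFibre (B := B) r n).comp (scale (r ^ (n - m))) = toFibre r m := by
  refine RingHom.ext fun p => Subtype.ext (Prod.ext ?_ ?_)
  · show (scale (r ^ (n - m)) p).eval 0 = p.eval 0
    rw [← coeff_zero_eq_eval_zero, ← coeff_zero_eq_eval_zero, coeff_scale, pow_zero, mul_one]
  · show scale ((rinv (B := B) r) ^ n) (mapRingHom (algebraMap A B) (scale (r ^ (n - m)) p)) =
      scale ((rinv (B := B) r) ^ m) (mapRingHom (algebraMap A B) p)
    rw [← RingHom.comp_apply (mapRingHom _), map_scale, RingHom.comp_apply,
      ← RingHom.comp_apply (scale _), scale_scale]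
    obtain ⟨k, rfl⟩ := Nat.exists_eq_add_of_le h
    rw [Nat.add_sub_cancel_left, pow_add, map_pow, mul_assoc, ← mul_pow, mul_comm (rinv r), r_rinv,
      one_pow, mul_one]

/-- The cocone over `diag` with vertex the fibre ring. -/
noncomputable def cocone : Cocone (diag r) where
  pt := CommRingCat.of (FibreRing A B)
  ι :=
    { app := fun n => CommRingCat.ofHom (toFibre (B := B) r (AsSmall.down.obj n))
      naturality := fun i j f => by
        show CommRingCat.ofHom (scale (r ^ (AsSmall.down.obj j - AsSmall.down.obj i))) ≫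
          CommRingCat.ofHom (toFibre r (AsSmall.down.obj j)) = _
        rw [← CommRingCat.ofHom_comp, toFibre_scale r _ _ (leOfHom (AsSmall.down.map f))]
        rfl }

lemma exists_toFibre (x : FibreRing A B) : ∃ n p, toFibre r n p = x := by
  have key : ∀ y : B[X], ∃ n, ∃ p : A[X], p.coeff 0 = 0 ∧
      scale ((rinv (B := B) r) ^ n) (p.map (algebraMap A B)) = y - Polynomial.C (y.coeff 0) := by
    intro y
    induction y using Polynomial.induction_on' with
    | add y z hy hz =>
      obtain ⟨n, p, hp0, hp⟩ := hy
      obtain ⟨m, q, hq0, hq⟩ := hz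
      refine ⟨n + m, scale (r ^ m) p + scale (r ^ n) q, by simp [coeff_scale, hp0, hq0], ?_⟩
      have e : ∀ (a b : ℕ) (s : A[X]), scale ((rinv (B := B) r) ^ (a + b)) ((scale (r ^ b) s).map (algebraMap A B)) =
          scale ((rinv (B := B) r) ^ a) (s.map (algebraMap A B)) := fun a b s => by
        have := congrArg (fun φ : A[X] →+* FibreRing A B => (φ s).1.2)
          (toFibre_scale (B := B) r a (a + b) (Nat.le_add_right a b))
        simpa [toFibre] using this
      rw [Polynomial.map_add, map_add, e n m p]
      have := e m n q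
      rw [add_comm m n] at this
      rw [this, hp, hq, coeff_add, map_add]
      ring
    | monomial i b =>
      rcases Nat.eq_zero_or_pos i with rfl | hi
      · exact ⟨0, 0, by simp, by simp⟩
      obtain ⟨n, a, ha⟩ := IsLocalization.Away.surj r b
      refine ⟨n, monomial i (a * r ^ (n * (i - 1))), by simp [coeff_monomial, hi.ne'], ?_⟩
      ext k
      rw [coeff_scale, coeff_map, coeff_monomial, coeff_sub, coeff_monomial, coeff_monomial, coeff_C]
      rcases eq_or_ne i k with rfl | hne
      · rw [if_pos rfl, if_pos rfl, if_neg hi.ne', sub_zero, map_mul, ← ha, map_pow]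
        calc b * algebraMap A B r ^ n * algebraMap A B r ^ (n * (i - 1)) * (rinv r ^ n) ^ i
            = b * (algebraMap A B r * rinv r) ^ (n * i) := by
              rw [mul_pow, ← pow_mul, mul_assoc b, ← pow_add]
              rw [show n + n * (i - 1) = n * i by
                obtain ⟨j, rfl⟩ : ∃ j, i = j + 1 := ⟨i - 1, by omega⟩
                rw [Nat.add_sub_cancel]; ring]
              ring
          _ = b := by rw [r_rinv, one_pow, mul_one]
      · rw [if_neg hne, if_neg hne, map_zero, zero_mul]
        split_ifs with h0 h1 <;> simp_all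
  obtain ⟨n, p, hp0, hp⟩ := key x.1.2
  refine ⟨n, p + Polynomial.C x.1.1, Subtype.ext (Prod.ext ?_ ?_)⟩
  · show (p + Polynomial.C x.1.1).eval 0 = x.1.1
    rw [← coeff_zero_eq_eval_zero, coeff_add, hp0, coeff_C_zero, zero_add]
  · show scale ((rinv (B := B) r) ^ n) ((p + Polynomial.C x.1.1).map (algebraMap A B)) = x.1.2
    have hx : algebraMap A B x.1.1 = x.1.2.coeff 0 := by
      rw [coeff_zero_eq_eval_zero]; exact x.2
    rw [Polynomial.map_add, map_add, hp, Polynomial.map_C, scale_C, hx, sub_add_cancel]

lemma exists_scale_eq (n : ℕ) (x y : A[X]) (h : toFibre (B := B) r n x = toFibre r n y) :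
    ∃ M, scale (r ^ M) x = scale (r ^ M) y := by
  have h0 : x.coeff 0 = y.coeff 0 := by
    rw [coeff_zero_eq_eval_zero, coeff_zero_eq_eval_zero]
    exact congrArg (fun z : FibreRing A B => z.1.1) h
  have hi : ∀ i, ∃ M, r ^ M * x.coeff i = r ^ M * y.coeff i := by
    intro i
    refine IsLocalization.Away.exists_of_eq (S := B) r ?_
    have := congrArg (fun z : FibreRing A B => z.1.2.coeff i) h
    simp only [toFibre] at this
    change (scale ((rinv (B := B) r) ^ n) (x.map (algebraMap A B))).coeff i =
      (scale ((rinv (B := B) r) ^ n) (y.map (algebraMap A B))).coeff i at this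
    rw [coeff_scale, coeff_scale, coeff_map, coeff_map] at this
    refine (IsUnit.mul_left_injective ?_) this
    exact ((IsUnit.of_mul_eq_one _ ((mul_comm _ _).trans (r_rinv r))).pow _).pow _
  choose M hM using hi
  let S := Finset.range (x.natDegree + y.natDegree + 1)
  refine ⟨S.sup M, ?_⟩
  ext i
  rw [coeff_scale, coeff_scale]
  rcases Nat.eq_zero_or_pos i with rfl | hipos
  · rw [h0]
  by_cases hiS : i ∈ S
  · obtain ⟨k, hk⟩ := Nat.exists_eq_add_of_le
      (show M i ≤ S.sup M * i from (Finset.le_sup hiS).trans (Nat.le_mul_of_pos_right _ hipos))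
    rw [← pow_mul, hk, pow_add]
    linear_combination r ^ k * hM i
  · have : x.natDegree + y.natDegree < i := by
      simp only [S, Finset.mem_range] at hiS; omega
    rw [coeff_eq_zero_of_natDegree_lt (by omega), coeff_eq_zero_of_natDegree_lt (by omega)]

/-- The fibre ring is the colimit of the diagram. -/
noncomputable def isColimit : IsColimit (cocone (B := B) r) := by
  have : ReflectsColimit (diag r) (forget CommRingCat.{u}) :=
    reflectsColimit_of_reflectsIsomorphisms _ _
  refine isColimitOfReflects (forget CommRingCat.{u}) ?_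
  refine Types.FilteredColimit.isColimitOf' _ _ ?_ ?_
  · intro x
    obtain ⟨n, p, hp⟩ := exists_toFibre r x
    exact ⟨AsSmall.up.obj n, p, hp.symm⟩
  · intro i x y h
    obtain ⟨M, hM⟩ := exists_scale_eq (B := B) r (AsSmall.down.obj i) x y h
    refine ⟨AsSmall.up.obj (AsSmall.down.obj i + M), ⟨homOfLE (Nat.le_add_right _ _)⟩, ?_⟩
    show scale (r ^ (AsSmall.down.obj i + M - AsSmall.down.obj i)) x =
      scale (r ^ (AsSmall.down.obj i + M - AsSmall.down.obj i)) y
    rw [Nat.add_sub_cancel_left]
    exact hM

/-- A point over `B[V]` whose restriction to `V = 0` comes from `A` becomes, after rescaling by a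
power of `r`, a point over `A[V]`. -/
theorem exists_scale_factor {R : Type u} [CommRing R] {G : Scheme.{u}}
    (str : G ⟶ Spec (CommRingCat.of R)) [LocallyOfFinitePresentation str]
    (sA : R →+* A) (h : Spec (CommRingCat.of B[X]) ⟶ G)
    (hh : h ≫ str = sm (((Polynomial.C : B →+* B[X]).comp (algebraMap A B)).comp sA))
    (e : Spec (CommRingCat.of A) ⟶ G) (he : e ≫ str = sm sA)
    (hcomp : sm (algebraMap A B) ≫ e = sm (evalRingHom (0 : B)) ≫ h) :
    ∃ (N : ℕ) (k : Spec (CommRingCat.of A[X]) ⟶ G),
      k ≫ str = sm ((Polynomial.C : A →+* A[X]).comp sA) ∧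
      sm (mapRingHom (algebraMap A B)) ≫ k = sm (scale (algebraMap A B r ^ N)) ≫ h := by
  obtain ⟨H, hH1, hH2⟩ := (square (A := A) (B := B)).exists_glue e h hcomp
  let D : (AsSmall.{u} ℕ)ᵒᵖ ⥤ Scheme.{u} := (diag r).op ⋙ Scheme.Spec
  let t : D ⟶ (Functor.const _).obj (Spec (CommRingCat.of R)) :=
    { app := fun n => sm ((Polynomial.C : A →+* A[X]).comp sA)
      naturality := fun i j f => by
        show Spec.map _ ≫ sm _ = _ ≫ 𝟙 _
        rw [Category.comp_id, sm, ← Spec.map_comp]
        congr 1
        ext x
        exact scale_C _ _ }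
  let c : Cone D := Scheme.Spec.mapCone (cocone (B := B) r).op
  have hc : IsLimit c := isLimitOfPreserves Scheme.Spec (isColimit r).op
  have hstr : H ≫ str = sm ((RingHom.codRestrict (sA.prod (((Polynomial.C : B →+* B[X]).comp (algebraMap A B)).comp sA))
      (FibreRing A B) (fun x => by show algebraMap A B (sA x) = _; simp))) := by
    obtain ⟨φ, hφ⟩ := Spec.map_surjective (H ≫ str)
    rw [← hφ]
    congr 1
    refine CommRingCat.hom_ext (RingHom.ext fun x => (square (A := A) (B := B)).ext _ _ ?_ ?_)
    · have := congrArg (fun m => (Spec.preimage m).hom x) (show sm _ ≫ H ≫ str = sm sA by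
        rw [reassoc_of% hH1, he])
      simp only [sm, ← hφ, ← Spec.map_comp, Spec.preimage_map] at this
      exact this
    · have := congrArg (fun m => (Spec.preimage m).hom x) (show sm _ ≫ H ≫ str = _ by
        rw [reassoc_of% hH2, hh])
      simp only [sm, ← hφ, ← Spec.map_comp, Spec.preimage_map] at this
      exact this
  have : ∀ {i j} (f : i ⟶ j), IsAffineHom (D.map f) := fun f => by
    show IsAffineHom (Spec.map _); infer_instance
  have : ∀ i, CompactSpace (D.obj i) := fun i =>
    inferInstanceAs (CompactSpace (Spec (CommRingCat.of A[X])))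
  have : ∀ i, QuasiSeparatedSpace (D.obj i) := fun i =>
    inferInstanceAs (QuasiSeparatedSpace (Spec (CommRingCat.of A[X])))
  obtain ⟨i, g, hg1, hg2⟩ := Scheme.exists_π_app_comp_eq_of_locallyOfFinitePresentation D t str c hc
    (show c.pt ⟶ G from H) (by
    ext i
    show Spec.map (CommRingCat.ofHom (toFibre (B := B) r (AsSmall.down.obj i.unop))) ≫ sm _ = H ≫ str
    rw [hstr, sm, sm, ← Spec.map_comp]
    congr 1
    refine CommRingCat.hom_ext (RingHom.ext fun x => (square (A := A) (B := B)).ext _ _ ?_ ?_)
    · show (Polynomial.C (sA x)).eval 0 = sA x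
      simp
    · show scale _ ((Polynomial.C (sA x)).map (algebraMap A B)) = Polynomial.C (algebraMap A B (sA x))
      rw [Polynomial.map_C, scale_C])
  let g' : Spec (CommRingCat.of A[X]) ⟶ G := g
  have hg1' : sm (toFibre (B := B) r (AsSmall.down.obj i.unop)) ≫ g' = H := hg1
  refine ⟨(AsSmall.down.obj i.unop), g', hg2, ?_⟩
  rw [← hH2, ← hg1', ← Category.assoc (sm ((RingHom.snd A B[X]).comp _)), ← sm_comp,
    ← Category.assoc, ← sm_comp]
  congr 2
  refine RingHom.ext fun p => ?_
  show p.map (algebraMap A B) =
    scale (algebraMap A B r ^ (AsSmall.down.obj i.unop)) (scale ((rinv (B := B) r) ^ (AsSmall.down.obj i.unop)) (p.map (algebraMap A B)))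
  rw [← RingHom.comp_apply (scale _), scale_scale, ← mul_pow, r_rinv, one_pow, scale_one]
  rfl

end

end Groth.Agent.H98QP
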